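import Groth.Prelude.Def_Mor2
import Groth.Agent.RegSeq.Imm
import Groth.Agent.PerfMor.Surj

/-!
Composition of regular closed immersions (regular sequences).
-/

set_option autoImplicit false
universe u

open CategoryTheory CategoryTheory.Limits AlgebraicGeometry RingTheory.Sequence

namespace Groth.Agent.RegCompLead

variable {X Y Z : Scheme.{u}}

/-- Regular sequences concatenate. -/
theorem isWeaklyRegular_append {R Q : Type u} [CommRing R] [CommRing Q] (φ : R →+* Q) (hφ : Function.Surjective φ)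
    {rs g : List R} (hker : RingHom.ker φ = Ideal.ofList rs) (hrs : IsWeaklyRegular R rs)
    (hg : IsWeaklyRegular Q (g.map φ)) : IsWeaklyRegular R (rs ++ g) := by
  let e : (R ⧸ Ideal.ofList rs) ≃+* Q :=
    (Ideal.quotEquivOfEq hker.symm).trans (RingHom.quotientKerEquivOfSurjective hφ)
  letI := e.symm.toRingHom.toAlgebra
  have : Module.Flat Q (R ⧸ Ideal.ofList rs) := RingHom.Flat.of_bijective (f := e.symm.toRingHom) e.symm.bijective
  have h1 : IsWeaklyRegular (R ⧸ Ideal.ofList rs) ((g.map φ).map (algebraMap Q (R ⧸ Ideal.ofList rs))) :=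
    hg.of_flat
  have h2 : (g.map φ).map (algebraMap Q (R ⧸ Ideal.ofList rs)) = g.map (algebraMap R (R ⧸ Ideal.ofList rs)) := by
    rw [List.map_map]
    refine List.map_congr_left fun a _ => ?_
    show e.symm (φ a) = Ideal.Quotient.mk _ a
    rw [RingEquiv.symm_apply_eq]
    rfl
  rw [h2, isWeaklyRegular_map_algebraMap_iff] at h1
  refine (isWeaklyRegular_append_iff R rs g).2 ⟨hrs, ?_⟩
  refine (LinearEquiv.isWeaklyRegular_congr (Submodule.quotEquivOfEq _ _ ?_) g).2 h1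
  rw [smul_eq_mul, Ideal.mul_top]

theorem restrict_regular (i : Y ⟶ X) {U U' : X.Opens} (hU : IsAffineOpen U) (hU' : IsAffineOpen U') (e : U' ≤ U)
    [IsClosedImmersion (i ∣_ U)] {rs : List Γ(X, U)} (hrs : IsWeaklyRegular Γ(X, U) rs)
    (hker : RingHom.ker (i.app U).hom = Ideal.ofList rs) :
    IsClosedImmersion (i ∣_ U') ∧ ∃ rs' : List Γ(X, U'),
      IsWeaklyRegular Γ(X, U') rs' ∧ RingHom.ker (i.app U').hom = Ideal.ofList rs' := by
  obtain ⟨hcl, hk⟩ := Groth.Agent.RegSeq.restrict_baseChange (g := 𝟙 X) (g' := 𝟙 Y) (IsPullback.id_horiz i) hU hU' e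
  let φ := ((𝟙 X : X ⟶ X).appLE U U' e).hom
  letI := φ.toAlgebra
  have : Module.Flat Γ(X, U) Γ(X, U') := Scheme.Hom.flat_appLE (𝟙 X) hU hU' e
  exact ⟨hcl, rs.map (algebraMap Γ(X, U) Γ(X, U')), hrs.of_flat, by rw [hk, hker, Ideal.map_ofList]; rfl⟩

theorem isRegularClosedImmersion_comp (j : Z ⟶ Y) (i : Y ⟶ X) (hj : Mor2.IsRegularClosedImmersion j)
    (hi : Mor2.IsRegularClosedImmersion i) : Mor2.IsRegularClosedImmersion (j ≫ i) := by
  obtain ⟨hicl, hil⟩ := hi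
  obtain ⟨hjcl, hjl⟩ := hj
  refine ⟨inferInstance, fun z => ?_⟩
  obtain ⟨U, hU, hzU, rs, hrs, hker⟩ := hil (j z)
  obtain ⟨V, hV, hzV, ss, hss, hkerj⟩ := hjl z
  rw [Scheme.Hom.ker_apply] at hker hkerj
  obtain ⟨O, hO, hOV⟩ := i.isEmbedding.isInducing.isOpen_iff.1 V.2
  have hzO : i (j z) ∈ O := (Set.ext_iff.1 hOV (j z)).2 hzV
  obtain ⟨_, ⟨U', hU', rfl⟩, hzU', hU'le⟩ := X.isBasis_affineOpens.exists_subset_of_mem_open
    (show i (j z) ∈ (U : Set X) ∩ O from ⟨hzU, hzO⟩) (U.2.inter hO)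
  have hWV : i ⁻¹ᵁ U' ≤ V := fun y hy => (Set.ext_iff.1 hOV y).1 (hU'le hy).2
  obtain ⟨-, rs', hrs', hker'⟩ := restrict_regular i hU hU' (fun x hx => (hU'le hx).1) hrs.toIsWeaklyRegular hker
  obtain ⟨hW, hsurj⟩ := PerfMor.surjective_app_of_restrict i hU'
  obtain ⟨-, ss', hss', hkerj'⟩ := restrict_regular j hV hW hWV hss.toIsWeaklyRegular hkerj
  obtain ⟨g, hg⟩ : ∃ g : List Γ(X, U'), g.map (i.app U').hom = ss' :=
    (List.map_surjective_iff.2 hsurj) ss'
  have hk : RingHom.ker ((j ≫ i).app U').hom = Ideal.ofList (rs' ++ g) := by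
    have hm : Ideal.map (i.app U').hom (Ideal.ofList g) = Ideal.ofList ss' := by rw [Ideal.map_ofList, hg]
    rw [Ideal.ofList_append, ← hker', sup_comm]
    show RingHom.ker ((j.app (i ⁻¹ᵁ U')).hom.comp (i.app U').hom) = _
    rw [← RingHom.comap_ker, hkerj', ← hm, Ideal.comap_map_of_surjective' _ hsurj]
  refine ⟨U', hU', hzU', rs' ++ g, ⟨isWeaklyRegular_append _ hsurj hker' hrs' (hg ▸ hss'), ?_⟩, ?_⟩
  · rw [smul_eq_mul, Ideal.mul_top, ← hk]
    have : Nontrivial Γ(Z, (j ≫ i) ⁻¹ᵁ U') := by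
      have : Nonempty ((j ≫ i) ⁻¹ᵁ U').toScheme := ⟨⟨z, hzU'⟩⟩
      infer_instance
    exact (RingHom.ker_ne_top _).symm
  · rw [Scheme.Hom.ker_apply]
    exact hk

end Groth.Agent.RegCompLead
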